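import Groth.Agent.L24.Bertini.Jets
import Groth.Agent.L14.Fano.ExistsLine
import Groth.Prelude.Def_LefPen
import Mathlib.RingTheory.Jacobson.Ring
import Mathlib.FieldTheory.IsAlgClosed.Basic

/-! Bertini on a chart for the forms of a fixed degree. -/

set_option autoImplicit false
set_option linter.style.haveILetI false

universe u

open MvPolynomial

noncomputable section

namespace Groth.L05.HypBertini

open Groth.L14.Fano (Mon)

variable {k : Type u} [Field k] {r : ℕ}

theorem form_eq_sum {d : ℕ} (G : LefPen.Form r k d) :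
    G.1 = ∑ μ : Mon (r + 1) d, monomial μ.1 (coeff μ.1 G.1) := by
  classical
  conv_lhs => rw [G.1.as_sum]
  have hG : G.1.IsHomogeneous d := (mem_homogeneousSubmodule d _).1 G.2
  refine Eq.trans ?_ (Finset.sum_map (Finset.univ : Finset (Mon (r + 1) d)) ⟨Subtype.val, Subtype.val_injective⟩
    (fun μ => monomial μ (coeff μ G.1)))
  refine Finset.sum_subset (fun μ hμ => ?_) fun μ _ hμ => by rw [notMem_support_iff.1 hμ, monomial_zero]
  refine Finset.mem_map.2 ⟨⟨μ, ?_⟩, Finset.mem_univ _, rfl⟩
  by_contra h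
  exact mem_support_iff.1 hμ (hG.coeff_eq_zero h)

variable [IsAlgClosed k]

theorem exists_poly_forms {C' : Type u} [CommRing C'] [Algebra k C'] [Nontrivial C'] (n : ℕ)
    [Algebra.IsStandardSmoothOfRelativeDimension n k C'] (a : Fin (r + 1))
    (ψ : MvPolynomial (Fin (r + 1)) k →ₐ[k] C') (ha : ψ (X a) = 1)
    (hfrac : ∀ z : C', ∃ g s, IsUnit (ψ s) ∧ z * ψ s = ψ g) (d : ℕ) (hd : 1 ≤ d) :
    ∃ R : MvPolynomial (Mon (r + 1) d) k, R ≠ 0 ∧ ∀ G : LefPen.Form r k d,
      eval (fun μ : Mon (r + 1) d => coeff μ.1 G.1) R ≠ 0 →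
      Algebra.Smooth k (C' ⧸ Ideal.span {ψ G.1}) := by
  classical
  haveI : Algebra.IsStandardSmooth k C' := Algebra.IsStandardSmoothOfRelativeDimension.isStandardSmooth n
  haveI : Algebra.FiniteType k C' := inferInstance
  let e := Fintype.equivFin (Mon (r + 1) d)
  let am : Fin (Fintype.card (Mon (r + 1) d)) → C' := fun j => ψ (monomial (e.symm j).1 1)
  have hsum : ∀ G : LefPen.Form r k d, ∑ j, algebraMap k C' (coeff (e.symm j).1 G.1) * am j = ψ G.1 := by
    intro G
    conv_rhs => rw [form_eq_sum G, map_sum]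
    rw [← e.symm.sum_comp (fun μ : Mon (r + 1) d => ψ (monomial μ.1 (coeff μ.1 G.1)))]
    refine Finset.sum_congr rfl fun j _ => ?_
    rw [← Algebra.smul_def, ← map_smul, smul_monomial, smul_eq_mul, mul_one]
  have hjet : ∀ q : Ideal C', q.IsMaximal → ∀ l : C', ∃ c : Fin (Fintype.card (Mon (r + 1) d)) → k,
      (∑ j, algebraMap k C' (c j) * am j) - l ∈ q ^ 2 := by
    intro q hq l
    haveI := hq
    have hres : ∀ z : C', ∃ c : k, z - algebraMap k C' c ∈ q := by
      intro z
      letI : Field (C' ⧸ q) := Ideal.Quotient.field q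
      haveI : Module.Finite k (C' ⧸ q) := finite_of_finite_type_of_isJacobsonRing k _
      obtain ⟨c, hc⟩ := (IsAlgClosed.algebraMap_bijective_of_isIntegral (k := k) (K := C' ⧸ q)).2
        (Ideal.Quotient.mk q z)
      exact ⟨c, Ideal.Quotient.eq.1 (hc.symm.trans rfl)⟩
    choose c hc using fun j : Fin (r + 1) => hres (ψ (X j))
    let J := Ideal.span (Set.range fun j => ψ (X j) - algebraMap k C' (c j))
    have hJ : J ≤ q := Ideal.span_le.2 (Set.range_subset_iff.2 hc)
    have heval : ∀ g : MvPolynomial (Fin (r + 1)) k, ψ g - algebraMap k C' (eval c g) ∈ J := by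
      intro g
      induction g using MvPolynomial.induction_on with
      | C t => simp [← algebraMap_eq]
      | add p p' hp hp' =>
        have := J.add_mem hp hp'
        convert this using 1
        simp only [map_add]
        ring
      | mul_X p j hp =>
        have h2 : ψ (X j) - algebraMap k C' (c j) ∈ J := Ideal.subset_span ⟨j, rfl⟩
        have := J.add_mem (J.mul_mem_right (ψ (X j)) hp) (J.mul_mem_left (algebraMap k C' (eval c p)) h2)
        convert this using 1
        simp only [map_mul, eval_X]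
        ring
    have hqJ : q ≤ J := by
      intro z hz
      obtain ⟨g, s, hs, hzs⟩ := hfrac z
      have hg : ψ g ∈ q := hzs ▸ Ideal.mul_mem_right _ _ hz
      have h0 : eval c g = 0 := by
        by_contra hne
        have h1 : algebraMap k C' (eval c g) ∈ q := by
          have := q.sub_mem hg (hJ (heval g))
          rwa [sub_sub_cancel] at this
        exact hq.ne_top (Ideal.eq_top_of_isUnit_mem _ h1 ((IsUnit.mk0 _ hne).map _))
      have h3 := heval g
      rw [h0, map_zero, sub_zero, ← hzs] at h3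
      exact (Ideal.mul_unit_mem_iff_mem J hs).1 h3
    obtain ⟨e₀, he₀⟩ := hres l
    obtain ⟨v, hv⟩ := Ideal.mem_span_range_iff_exists_fun.1 (hqJ he₀)
    choose w hw using fun j => hres (v j)
    let L : MvPolynomial (Fin (r + 1)) k := C e₀ * X a + ∑ j, C (w j) * (X j - C (c j) * X a)
    have hL : L.IsHomogeneous 1 := (isHomogeneous_C_mul_X _ _).add (IsHomogeneous.sum _ _ _ fun j _ =>
      IsHomogeneous.C_mul ((isHomogeneous_X k _).sub (isHomogeneous_C_mul_X _ _)) _)
    let G : LefPen.Form r k d := ⟨X a ^ (d - 1) * L, (mem_homogeneousSubmodule d _).2 (by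
      have h := ((isHomogeneous_X k a).pow (d - 1)).mul hL
      rw [show 1 * (d - 1) + 1 = d by omega] at h
      exact h)⟩
    refine ⟨fun j => coeff (e.symm j).1 G.1, ?_⟩
    rw [hsum]
    have hψ : ψ G.1 - l = -∑ j, (v j - algebraMap k C' (w j)) * (ψ (X j) - algebraMap k C' (c j)) := by
      have h4 : ψ G.1 = algebraMap k C' e₀ + ∑ j, algebraMap k C' (w j) * (ψ (X j) - algebraMap k C' (c j)) := by
        show ψ (X a ^ (d - 1) * L) = _
        simp only [L, map_mul, map_pow, ha, one_pow, one_mul, map_add, map_sum, map_sub, mul_one,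
          ← algebraMap_eq, AlgHom.commutes]
      rw [h4]
      simp only [sub_mul, Finset.sum_sub_distrib]
      linear_combination hv
    rw [hψ]
    refine neg_mem (Submodule.sum_mem _ fun j _ => ?_)
    rw [pow_two]
    exact Ideal.mul_mem_mul (hw j) (hc j)
  obtain ⟨P, hP0, hP⟩ := Groth.L24.Bertini.exists_poly_jets n _ (0 : C') am hjet
  refine ⟨rename e.symm P, fun h => hP0 (rename_injective _ e.symm.injective (by rw [h, map_zero])), fun G hG => ?_⟩
  rw [eval_rename] at hG
  have h5 := hP (fun j => coeff (e.symm j).1 G.1) hG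
  rwa [zero_add, hsum] at h5

end Groth.L05.HypBertini
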