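import Groth.Agent.L14.Quot.RelDim
import Groth.Agent.L08.Cube.SmoothStalk
import Mathlib.AlgebraicGeometry.Morphisms.FiniteType

/-! Relative dimension of smooth schemes over an algebraically closed field from closed stalks. -/

set_option autoImplicit false
set_option linter.style.haveILetI false
set_option backward.isDefEq.respectTransparency false
set_option backward.isDefEq.respectTransparency.types false

universe u

open CategoryTheory AlgebraicGeometry TopologicalSpace IsLocalRing

noncomputable section

namespace Groth.L05.HypBertini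

theorem smoothOfRelativeDimension_of_stalks {k : Type u} [Field k] [IsAlgClosed k] {Y : Scheme.{u}}
    (q : Y ⟶ Spec (CommRingCat.of k)) [Smooth q] (m : ℕ)
    (h : ∀ y : Y, IsClosed ({y} : Set Y) → ringKrullDim (Y.presheaf.stalk y) = m) :
    SmoothOfRelativeDimension m q := by
  haveI : LocallyOfFiniteType q := inferInstance
  haveI : JacobsonSpace Y := LocallyOfFiniteType.jacobsonSpace q
  choose W n hmem hW using Groth.L14.Quot.exists_relativeDimension q
  refine IsZariskiLocalAtSource.of_iSup_eq_top (P := @SmoothOfRelativeDimension m) W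
    (eq_top_iff.2 fun y _ => Opens.mem_iSup.2 ⟨y, hmem y⟩) fun y => ?_
  obtain ⟨z, hzW, hz⟩ := nonempty_inter_closedPoints (Z := (W y : Set Y)) ⟨y, hmem y⟩ (W y).2.isLocallyClosed
  haveI := hW y
  haveI : IsLocallyNoetherian Y := LocallyOfFiniteType.isLocallyNoetherian q
  haveI : IsRegularLocalRing (Y.presheaf.stalk z) := Groth.L08.Cube.isRegularLocalRing_of_smooth q z
  have hz' : IsClosed ({⟨z, hzW⟩} : Set (W y)) := by
    have : ({⟨z, hzW⟩} : Set (W y)) = Subtype.val ⁻¹' {z} := by
      ext w; exact ⟨fun hw => congrArg Subtype.val hw, fun hw => Subtype.ext hw⟩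
    rw [this]
    exact (mem_closedPoints_iff.1 hz).preimage continuous_subtype_val
  have h1 := Groth.L14.Quot.finrank_cotangent_of_smoothOfRelativeDimension ((W y).ι ≫ q) (n y) ⟨z, hzW⟩ hz'
  let e : (↑(W y) : Scheme.{u}).presheaf.stalk ⟨z, hzW⟩ ≃+* Y.presheaf.stalk z :=
    ((W y).stalkIso ⟨z, hzW⟩).commRingCatIsoToRingEquiv
  haveI : IsRegularLocalRing ((↑(W y) : Scheme.{u}).presheaf.stalk ⟨z, hzW⟩) :=
    IsRegularLocalRing.of_ringEquiv e.symm
  have h2 : ((n y : ℕ) : WithBot ℕ∞) = (m : ℕ) := by
    rw [← h z (mem_closedPoints_iff.1 hz), ← ringKrullDim_eq_of_ringEquiv e,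
      ← (IsRegularLocalRing.iff_finrank_cotangentSpace _).1 inferInstance, h1]
  exact (Nat.cast_injective h2) ▸ hW y

end Groth.L05.HypBertini
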