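import Groth.Agent.L05.HypBertini.Ring
import Groth.Agent.L05.HypBertini.RelDim
import Groth.Agent.L05.OrdQuad.Main
import Groth.Agent.L14.Fano.Generic
import Groth.Agent.L22.SchemeDim
import Mathlib.RingTheory.KrullDimension.Regular

/-! A general hypersurface section of given degree is transversal. -/

set_option autoImplicit false
set_option linter.style.haveILetI false
set_option backward.isDefEq.respectTransparency false
set_option backward.isDefEq.respectTransparency.types false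
set_option maxHeartbeats 1000000

universe u

open CategoryTheory CategoryTheory.Limits AlgebraicGeometry TopologicalSpace MvPolynomial IsLocalRing Opposite

noncomputable section

namespace Groth.L05.HypBertini

open Groth.L14.Fano (Mon)
open Groth.L05.OrdQuad (σ σ_C σ_X_self deh_C)
open Groth.L18.CIProj (deh deh_surjective deh_form)
open Groth.L22.SchemeDim (sectHom)

variable {k : Type u} [Field k] [IsAlgClosed k] {r : ℕ} {X : Scheme.{u}} (i : X ⟶ CohB1.ProjSpace r k)
  [IsClosedImmersion i]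

/-- Restriction of a dehomogenised form to an open of `X`. -/
def res (a : Fin (r + 1)) (D : X.Opens) (hD : D ≤ i ⁻¹ᵁ LefPen.chart r k a) :
    MvPolynomial (Fin (r + 1)) k →+* Γ(X, D) :=
  (i.appLE (LefPen.chart r k a) D hD).hom.comp (deh a)

omit [IsAlgClosed k] [IsClosedImmersion i] in
theorem secIdeal_ideal {d : ℕ} (H : LefPen.Form r k d) (a : Fin (r + 1)) (D : X.affineOpens)
    (hD : D.1 ≤ i ⁻¹ᵁ LefPen.chart r k a) :
    (LefPen.secIdeal i ({H} : Set (LefPen.Form r k d))).ideal D = Ideal.span {res i a D.1 hD H.1} := by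
  rw [LefPen.secIdeal, iSup_singleton,
    Groth.L22.Ideals.comap_ideal i _ ⟨_, Groth.L21.PlaneCurve.isAffineOpen_chart a⟩ D hD,
    Groth.L21.PlaneCurve.hypIdeal_chart, Ideal.map_span, Set.image_singleton, ← deh_form]
  rfl

omit [IsAlgClosed k] in
theorem mem_support_iff {d : ℕ} (H : LefPen.Form r k d) (a : Fin (r + 1)) (x : X)
    (hxa : i x ∈ LefPen.chart r k a) :
    x ∈ (LefPen.secIdeal i ({H} : Set (LefPen.Form r k d))).support ↔
      x ∉ X.basicOpen ((i.app (LefPen.chart r k a)).hom (deh a H.1)) := by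
  rw [Scheme.IdealSheafData.mem_support_iff_of_mem
      (U := ⟨_, Groth.L05.OrdQuad.isAffineOpen_preimage_chart i a⟩) hxa,
    secIdeal_ideal i H a ⟨_, _⟩ le_rfl, Scheme.zeroLocus_span, Scheme.mem_zeroLocus_iff]
  simp only [Set.mem_singleton_iff, forall_eq]
  rw [res, Scheme.Hom.appLE_eq_app]
  rfl

variable (n : ℕ) [SmoothOfRelativeDimension n (i ≫ CohB1.ProjSpace.toSpec r k)]

include n in
theorem exists_chart_poly (d : ℕ) (hd : 1 ≤ d) (x : X) :
    ∃ (D : X.affineOpens) (R : MvPolynomial (Mon (r + 1) d) k), x ∈ D.1 ∧ R ≠ 0 ∧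
      ∀ H : LefPen.Form r k d, eval (fun μ : Mon (r + 1) d => coeff μ.1 H.1) R ≠ 0 →
        ((LefPen.secToSpec i ({H} : Set (LefPen.Form r k d))).appLE ⊤
          (LefPen.secι i ({H} : Set (LefPen.Form r k d)) ⁻¹ᵁ D.1) le_top).hom.Smooth := by
  letI : X.Over (Spec (CommRingCat.of k)) := ⟨i ≫ CohB1.ProjSpace.toSpec r k⟩
  obtain ⟨a, hxa⟩ : ∃ a, i x ∈ LefPen.chart r k a := Groth.L21.PlaneCurve.exists_mem_chart _
  have hW := Groth.L05.OrdQuad.isAffineOpen_preimage_chart i a
  obtain ⟨U, hU, V, hV, hxV, e, hsm⟩ :=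
    SmoothOfRelativeDimension.exists_isStandardSmoothOfRelativeDimension (n := n)
      (f := i ≫ CohB1.ProjSpace.toSpec r k) x
  obtain rfl : U = ⊤ := by
    ext z
    simp only [Opens.coe_top, Set.mem_univ, iff_true]
    have h : (i ≫ CohB1.ProjSpace.toSpec r k) x = z := Subsingleton.elim (α := PrimeSpectrum k) _ _
    rw [← h]
    exact e hxV
  obtain ⟨f, g, hfg, hxf⟩ := exists_basicOpen_le_affine_inter hW hV x ⟨hxa, hxV⟩
  let D : X.affineOpens := ⟨X.basicOpen f, hW.basicOpen f⟩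
  have hDW : D.1 ≤ i ⁻¹ᵁ LefPen.chart r k a := X.basicOpen_le f
  have hDV : D.1 ≤ V := hfg.trans_le (X.basicOpen_le g)
  letI algV : Algebra k Γ(X, V) := (sectHom k X V).toAlgebra
  haveI : Algebra.IsStandardSmoothOfRelativeDimension n k Γ(X, V) :=
    RingHom.isStandardSmoothOfRelativeDimension_respectsIso.2 _
      (Scheme.ΓSpecIso (CommRingCat.of k)).symm.commRingCatIsoToRingEquiv hsm
  letI algD : Algebra k Γ(X, D.1) := (sectHom k X D.1).toAlgebra
  letI algVD : Algebra Γ(X, V) Γ(X, D.1) := (X.presheaf.map (homOfLE hDV).op).hom.toAlgebra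
  haveI : IsLocalization.Away g Γ(X, D.1) :=
    hV.isLocalization_of_eq_basicOpen g (homOfLE hDV) hfg
  haveI : IsScalarTower k Γ(X, V) Γ(X, D.1) := IsScalarTower.of_algebraMap_eq fun c => by
    show (X.presheaf.map (homOfLE le_top).op).hom _ =
      (X.presheaf.map (homOfLE hDV).op).hom ((X.presheaf.map (homOfLE le_top).op).hom _)
    rw [← CommRingCat.comp_apply, ← Functor.map_comp]
    rfl
  haveI : Algebra.IsStandardSmoothOfRelativeDimension 0 Γ(X, V) Γ(X, D.1) :=
    Algebra.IsStandardSmoothOfRelativeDimension.localization_away g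
  haveI : Algebra.IsStandardSmoothOfRelativeDimension n k Γ(X, D.1) := by
    simpa using (Algebra.IsStandardSmoothOfRelativeDimension.trans (n := n) (m := 0) k Γ(X, V) Γ(X, D.1))
  haveI : Nonempty D.1 := ⟨⟨x, hxf⟩⟩
  let ψ : MvPolynomial (Fin (r + 1)) k →ₐ[k] Γ(X, D.1) :=
    { res i a D.1 hDW with
      commutes' := fun c => by
        show (i.appLE (LefPen.chart r k a) D.1 hDW).hom (deh a (C c)) = sectHom k X D.1 c
        rw [deh_C, ← CommRingCat.comp_apply, Scheme.Hom.map_appLE]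
        show (i.appLE ⊤ D.1 le_top).hom _ = (X.presheaf.map (homOfLE le_top).op).hom _
        rw [Scheme.Hom.appLE, CommRingCat.comp_apply]
        rfl }
  have ha : ψ (MvPolynomial.X a) = 1 := by
    show (i.appLE (LefPen.chart r k a) D.1 hDW).hom (deh a (MvPolynomial.X a)) = 1
    rw [show deh (k := k) a (MvPolynomial.X a) = 1 by
      show (Proj.awayToSection _ _).hom (Groth.L16.ProjSpace.toAway r k a (Groth.L16.ProjSpace.dehom r k a (MvPolynomial.X a))) = 1
      rw [Groth.L16.ProjSpace.dehom_X_self, map_one, map_one], map_one]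
  have hfrac : ∀ z : Γ(X, D.1), ∃ g s, IsUnit (ψ s) ∧ z * ψ s = ψ g := by
    intro z
    letI : Algebra Γ(X, i ⁻¹ᵁ LefPen.chart r k a) Γ(X, D.1) := (X.presheaf.map (homOfLE hDW).op).hom.toAlgebra
    haveI : IsLocalization.Away f Γ(X, D.1) := hW.isLocalization_basicOpen f
    obtain ⟨⟨g', s'⟩, h⟩ := IsLocalization.surj (Submonoid.powers f) z
    have hsurj : Function.Surjective ((i.app (LefPen.chart r k a)).hom.comp (deh a)) :=
      (Groth.L07.RegImmComp.app_surjective i (LefPen.chart r k a) (Groth.L21.PlaneCurve.isAffineOpen_chart a)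
        (IsZariskiLocalAtTarget.restrict (P := @IsClosedImmersion) inferInstance _)).comp (deh_surjective a)
    obtain ⟨g₁, hg₁⟩ := hsurj g'
    obtain ⟨s₁, hs₁⟩ := hsurj s'.1
    have hψ : ∀ t, ψ t = algebraMap Γ(X, i ⁻¹ᵁ LefPen.chart r k a) Γ(X, D.1)
        ((i.app (LefPen.chart r k a)).hom (deh a t)) := fun t => by
      show (i.appLE (LefPen.chart r k a) D.1 hDW).hom (deh a t) = _
      rw [Scheme.Hom.appLE, CommRingCat.comp_apply]
      rfl
    refine ⟨g₁, s₁, ?_, ?_⟩
    · rw [hψ, show (i.app (LefPen.chart r k a)).hom (deh a s₁) = s'.1 from hs₁]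
      exact IsLocalization.map_units _ s'
    · rw [hψ, hψ, show (i.app (LefPen.chart r k a)).hom (deh a s₁) = s'.1 from hs₁,
        show (i.app (LefPen.chart r k a)).hom (deh a g₁) = g' from hg₁]
      exact h
  obtain ⟨R, hR0, hR⟩ := exists_poly_forms n a ψ ha hfrac d hd
  refine ⟨D, R, hxf, hR0, fun H hH => ?_⟩
  set ι' := LefPen.secι i ({H} : Set (LefPen.Form r k d))
  let θ : Γ(X, D.1) →+* Γ(LefPen.Sec i ({H} : Set (LefPen.Form r k d)), ι' ⁻¹ᵁ D.1) := (ι'.app D.1).hom
  have hθs : Function.Surjective θ := (LefPen.secIdeal i {H}).subschemeι_app_surjective D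
  have hker : RingHom.ker θ = Ideal.span {ψ H.1} :=
    ((LefPen.secIdeal i {H}).ker_subschemeι_app D).trans (secIdeal_ideal i H a D hDW)
  letI : Algebra k Γ(LefPen.Sec i ({H} : Set (LefPen.Form r k d)), ι' ⁻¹ᵁ D.1) :=
    (θ.comp (algebraMap k Γ(X, D.1))).toAlgebra
  let θa : Γ(X, D.1) →ₐ[k] Γ(LefPen.Sec i ({H} : Set (LefPen.Form r k d)), ι' ⁻¹ᵁ D.1) :=
    { θ with commutes' := fun _ => rfl }
  let eq : (Γ(X, D.1) ⧸ Ideal.span {ψ H.1}) ≃ₐ[k] Γ(LefPen.Sec i ({H} : Set (LefPen.Form r k d)), ι' ⁻¹ᵁ D.1) :=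
    (Ideal.quotientEquivAlgOfEq k hker.symm).trans (Ideal.quotientKerAlgEquivOfSurjective (f := θa) hθs)
  haveI := hR H hH
  have h1 : RingHom.Smooth (θ.comp (algebraMap k Γ(X, D.1))) := RingHom.smooth_algebraMap.2 (Algebra.Smooth.of_equiv eq)
  have h2 : (Scheme.ΓSpecIso (CommRingCat.of k)).inv ≫
      (LefPen.secToSpec i ({H} : Set (LefPen.Form r k d))).appLE ⊤ (ι' ⁻¹ᵁ D.1) le_top =
      CommRingCat.ofHom (θ.comp (algebraMap k Γ(X, D.1))) := by
    show _ ≫ (ι' ≫ (i ≫ CohB1.ProjSpace.toSpec r k)).appLE ⊤ (ι' ⁻¹ᵁ D.1) le_top = _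
    rw [← Scheme.Hom.appLE_comp_appLE ι' (i ≫ CohB1.ProjSpace.toSpec r k) ⊤ D.1 _ le_top le_rfl,
      Scheme.Hom.appLE_eq_app]
    rfl
  refine (RingHom.Smooth.respectsIso.cancel_left_isIso (Scheme.ΓSpecIso (CommRingCat.of k)).inv _).1 ?_
  exact (congrArg RingHom.Smooth (congrArg CommRingCat.Hom.hom h2)).mpr h1

theorem exists_point_poly [IrreducibleSpace X] (d : ℕ) :
    ∃ R : MvPolynomial (Mon (r + 1) d) k, R ≠ 0 ∧
      ∀ H : LefPen.Form r k d, eval (fun μ : Mon (r + 1) d => coeff μ.1 H.1) R ≠ 0 →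
        ∀ (a : Fin (r + 1)) (x₀ : X) (hxa : i x₀ ∈ LefPen.chart r k a), σ i a x₀ hxa H.1 ≠ 0 := by
  classical
  haveI : LocallyOfFiniteType (i ≫ CohB1.ProjSpace.toSpec r k) := inferInstance
  haveI : JacobsonSpace X := LocallyOfFiniteType.jacobsonSpace (i ≫ CohB1.ProjSpace.toSpec r k)
  obtain ⟨x⟩ := (inferInstance : Nonempty X)
  obtain ⟨xs, -, hxs⟩ := nonempty_inter_closedPoints (Z := (Set.univ : Set X)) ⟨x, trivial⟩
    isOpen_univ.isLocallyClosed
  obtain ⟨b, hxb⟩ : ∃ b, i xs ∈ LefPen.chart r k b := Groth.L21.PlaneCurve.exists_mem_chart _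
  obtain ⟨c, hc⟩ := Groth.L05.OrdQuad.exists_coords i b xs hxb (mem_closedPoints_iff.1 hxs)
  have hhom : (residue (X.presheaf.stalk xs)).comp (σ i b xs hxb) =
      ((residue (X.presheaf.stalk xs)).comp ((σ i b xs hxb).comp C)).comp (eval c) := by
    refine MvPolynomial.ringHom_ext (fun t => by simp) fun j => ?_
    simp only [RingHom.comp_apply, eval_X]
    rw [← sub_eq_zero, ← map_sub, residue_eq_zero_iff, ← map_sub, ← hc]
    exact Ideal.subset_span ⟨j, rfl⟩
  let R : MvPolynomial (Mon (r + 1) d) k := ∑ μ, C (eval c (monomial μ.1 1)) * MvPolynomial.X μ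
  have hR : ∀ H : LefPen.Form r k d, eval (fun μ : Mon (r + 1) d => coeff μ.1 H.1) R = eval c H.1 := by
    intro H
    conv_rhs => rw [form_eq_sum H, map_sum]
    simp only [R, map_sum, map_mul, eval_C, eval_X]
    refine Finset.sum_congr rfl fun μ _ => ?_
    rw [eval_monomial, eval_monomial]
    ring
  refine ⟨R, fun h0 => ?_, fun H hH a x₀ hxa hzero => ?_⟩
  · let G : LefPen.Form r k d := ⟨MvPolynomial.X b ^ d, (mem_homogeneousSubmodule d _).2 (by
      have h := (isHomogeneous_X k b).pow d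
      rwa [one_mul] at h)⟩
    have h1 := hR G
    rw [h0, map_zero] at h1
    have h2 := RingHom.congr_fun hhom G.1
    simp only [RingHom.comp_apply, ← h1, map_zero] at h2
    rw [show σ i b xs hxb G.1 = 1 from (map_pow (σ i b xs hxb) _ d).trans (by rw [σ_X_self, one_pow]), map_one] at h2
    exact one_ne_zero h2
  rw [hR] at hH
  have hu : IsUnit (σ i b xs hxb H.1) := by
    by_contra hn
    have h2 := RingHom.congr_fun hhom H.1
    rw [RingHom.comp_apply, (residue_eq_zero_iff _).2 ((mem_maximalIdeal _).2 hn)] at h2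
    exact ((IsUnit.mk0 _ hH).map ((residue (X.presheaf.stalk xs)).comp ((σ i b xs hxb).comp C))).ne_zero h2.symm
  have hns : xs ∉ (LefPen.secIdeal i ({H} : Set (LefPen.Form r k d))).support := fun h =>
    (mem_support_iff i H b xs hxb).1 h ((X.mem_basicOpen _ xs hxb).2 hu)
  obtain ⟨V, hxV, iU, iV, hV⟩ := X.presheaf.germ_eq x₀ hxa hxa _ 0
    (hzero.trans (map_zero (X.presheaf.germ (i ⁻¹ᵁ LefPen.chart r k a) x₀ hxa).hom).symm)
  have hsub : (V : Set X) ⊆ (LefPen.secIdeal i ({H} : Set (LefPen.Form r k d))).support := by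
    intro z hz
    refine (mem_support_iff i H a z (iU.le hz)).2 fun hzb => ?_
    have h3 : z ∈ X.basicOpen ((X.presheaf.map iU.op).hom ((i.app (LefPen.chart r k a)).hom (deh a H.1))) := by
      rw [X.basicOpen_res]
      exact ⟨hz, hzb⟩
    rw [show (X.presheaf.map iU.op).hom ((i.app (LefPen.chart r k a)).hom (deh a H.1)) = _ from hV, map_zero,
      X.basicOpen_zero] at h3
    exact h3
  refine hns (?_ : xs ∈ ((LefPen.secIdeal i ({H} : Set (LefPen.Form r k d))).support : Set X))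
  have hcl := closure_minimal hsub (LefPen.secIdeal i ({H} : Set (LefPen.Form r k d))).support.isClosed
  exact hcl (V.2.dense ⟨x₀, hxV⟩ xs)

theorem isGeneric_transversal [IrreducibleSpace X] (hn : 1 ≤ n) (d : ℕ) (hd : 1 ≤ d) :
    LefPen.IsGeneric k {H : LefPen.Form r k d |
      LefPen.Transversal k n 1 (LefPen.secToSpec i ({H} : Set (LefPen.Form r k d)))} := by
  classical
  haveI : Smooth (i ≫ CohB1.ProjSpace.toSpec r k) := SmoothOfRelativeDimension.smooth n _
  haveI : IsLocallyNoetherian X := LocallyOfFiniteType.isLocallyNoetherian i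
  haveI : QuasiCompact (CohB1.ProjSpace.toSpec r k) := inferInstance
  haveI : CompactSpace X := QuasiCompact.compactSpace_of_compactSpace (i ≫ CohB1.ProjSpace.toSpec r k)
  choose D R hxD hR0 hR using exists_chart_poly i n d hd
  obtain ⟨T, hT⟩ := isCompact_univ.elim_finite_subcover (fun y : X => ((D y).1 : Set X))
    (fun y => (D y).1.2) (fun y _ => Set.mem_iUnion.2 ⟨y, hxD y⟩)
  obtain ⟨R₀, hR₀, hR₀'⟩ := exists_point_poly i d
  refine Groth.L14.Fano.isGeneric_of_ne_zero (R₀ * ∏ y ∈ T, R y)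
    (mul_ne_zero hR₀ (Finset.prod_ne_zero_iff.2 fun y _ => hR0 y)) fun H hH => ?_
  rw [map_mul, map_prod, mul_ne_zero_iff, Finset.prod_ne_zero_iff] at hH
  set ι' := LefPen.secι i ({H} : Set (LefPen.Form r k d))
  haveI : Smooth (LefPen.secToSpec i ({H} : Set (LefPen.Form r k d))) := by
    refine HasRingHomProperty.of_iSup_eq_top (P := @Smooth)
      (fun y : T => ⟨ι' ⁻¹ᵁ (D y.1).1, (D y.1).2.preimage ι'⟩) ?_ fun y => hR y.1 H (hH.2 y.1 y.2)
    refine eq_top_iff.2 fun z _ => ?_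
    obtain ⟨y, hy, hz⟩ := Set.mem_iUnion₂.1 (hT (Set.mem_univ (ι' z)))
    exact Opens.mem_iSup.2 ⟨⟨y, hy⟩, hz⟩
  refine Or.inl ⟨hn, smoothOfRelativeDimension_of_stalks _ (n - 1) fun y hy => ?_⟩
  set x₀ := ι' y
  have hx₀ : IsClosed ({x₀} : Set X) := by
    simpa [Set.image_singleton] using ι'.isClosedEmbedding.isClosedMap _ hy
  obtain ⟨a, hxa⟩ : ∃ a, i x₀ ∈ LefPen.chart r k a := Groth.L21.PlaneCurve.exists_mem_chart _
  obtain ⟨p, hp, hker, -⟩ := Groth.L05.OrdQuad.σ_form_ker_secι i a x₀ hxa H y rfl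
  haveI : IsRegularLocalRing (X.presheaf.stalk x₀) :=
    Groth.L08.Cube.isRegularLocalRing_of_smooth (i ≫ CohB1.ProjSpace.toSpec r k) x₀
  haveI := Groth.L01.isDomain_of_regular (X.presheaf.stalk x₀)
  have hne := hR₀' H hH.1 a x₀ hxa
  have hmem : σ i a x₀ hxa H.1 ∈ maximalIdeal (X.presheaf.stalk x₀) :=
    le_maximalIdeal (RingHom.ker_ne_top p) (hker.ge (Ideal.mem_span_singleton_self _))
  have hdim : ringKrullDim (X.presheaf.stalk x₀) = ((n : ℕ) : WithBot ℕ∞) := by
    rw [← (IsRegularLocalRing.iff_finrank_cotangentSpace _).1 inferInstance,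
      Groth.L14.Quot.finrank_cotangent_of_smoothOfRelativeDimension (i ≫ CohB1.ProjSpace.toSpec r k) n x₀ hx₀]
  have h1 := ringKrullDim_quotient_span_singleton_succ_eq_ringKrullDim_of_mem_nonZeroDivisors
    (mem_nonZeroDivisors_of_ne_zero hne) hmem
  rw [ringKrullDim_eq_of_ringEquiv ((Ideal.quotEquivOfEq hker.symm).trans (RingHom.quotientKerEquivOfSurjective hp)),
    hdim] at h1
  haveI : IsLocallyNoetherian (LefPen.Sec i ({H} : Set (LefPen.Form r k d))) :=
    LocallyOfFiniteType.isLocallyNoetherian ι'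
  obtain ⟨m, hm⟩ := Groth.L01.exists_dim_eq_nat (R := (LefPen.Sec i ({H} : Set (LefPen.Form r k d))).presheaf.stalk y)
  rw [hm] at h1 ⊢
  have h2 : m + 1 = n := by exact_mod_cast h1
  exact_mod_cast (show m = n - 1 by omega)

end Groth.L05.HypBertini
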